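import Cfsg.Agent.Lib.Block.SFourFree.Basic
import Cfsg.Prelude.Def_LocalEven

/-!
The subgroups `Ĵ(S)` and `Ω₁Z(Ĵ(S))` of a 2-group, with the E-groups of Glauberman.
-/

set_option autoImplicit false
set_option linter.unusedSectionVars false
set_option linter.style.haveILetI false

namespace Cfsg.Agent.Classical.SFourK

open Subgroup Cfsg.Agent.Invol Cfsg.Agent.Block.SFour
open scoped commutatorElement

universe u v

variable {G : Type u} [Group G] [Finite G] {K : Type v} [Group K] [Finite K]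

/-- The bounds on fixed points and on commutators. -/
def Big (V R : Subgroup G) : Prop :=
  ((centralizer (V : Set G)).relIndex R) ^ 3 < ((centralizer (R : Set G)).relIndex V) ^ 2 ∧
    (centralizer (V : Set G)).relIndex R < Nat.card ↥⁅V, R⁆

/-- Every normal elementary abelian subgroup with the bounds is central. -/
def IsE (T : Subgroup G) : Prop :=
  ∀ V : Subgroup G, Cfsg.IsElementaryAbelian 2 V → V ≤ T → T ≤ normalizer (V : Set G) →
    (∀ R ≤ T, ElemImage R V → ¬ R ≤ centralizer (V : Set G) → Big V R) →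
    T ≤ centralizer (V : Set G)

/-- The cube bound holds also for a centralising subgroup. -/
theorem cube_le {V R : Subgroup G}
    (h : ¬ R ≤ centralizer (V : Set G) → ((centralizer (V : Set G)).relIndex R) ^ 3 <
      ((centralizer (R : Set G)).relIndex V) ^ 2) :
    ((centralizer (V : Set G)).relIndex R) ^ 3 ≤ ((centralizer (R : Set G)).relIndex V) ^ 2 := by
  by_cases hR : R ≤ centralizer (V : Set G)
  · rw [Subgroup.relIndex_eq_one.mpr hR, one_pow]
    exact Nat.one_le_pow _ _ (Nat.pos_of_ne_zero (relIndex_ne_zero' _ _))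
  · exact (h hR).le

theorem map_le_centralizer_map {f : G →* K} (hf : Function.Injective f) {A B : Subgroup G} :
    B.map f ≤ centralizer (A.map f : Set K) ↔ B ≤ centralizer (A : Set G) :=
  ⟨fun h x hx => (mem_centralizer_map hf).mp (h (Subgroup.mem_map_of_mem f hx)),
    fun h => by rintro _ ⟨x, hx, rfl⟩; exact (mem_centralizer_map hf).mpr (h hx)⟩

theorem big_map {f : G →* K} (hf : Function.Injective f) (V R : Subgroup G) :
    Big (V.map f) (R.map f) ↔ Big V R := by
  rw [Big, Big, relIndex_centralizer_map hf, relIndex_centralizer_map hf, ← Subgroup.map_commutator,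
    Subgroup.card_map_of_injective hf]

theorem isE_map {f : G →* K} (hf : Function.Injective f) (T : Subgroup G) :
    IsE (T.map f) ↔ IsE T := by
  constructor
  · intro h V hV hVT hTV hR x hx
    refine (mem_centralizer_map hf).mp (h (V.map f) (isEl_map hV f) (Subgroup.map_mono hVT)
      ((Subgroup.map_mono hTV).trans (Subgroup.le_normalizer_map f)) (fun R hRT hel hne => ?_)
      (Subgroup.mem_map_of_mem f hx))
    have e := le_map_of_le hRT
    rw [← e] at hel hRT hne ⊢
    exact (big_map hf _ _).mpr (hR _ ((Subgroup.map_le_map_iff_of_injective hf).mp hRT)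
      ((elemImage_map hf).mp hel) fun hle => hne ((map_le_centralizer_map hf).mpr hle))
  · intro h V hV hVT hTV hR
    have e := le_map_of_le hVT
    rw [← e] at hV hVT hTV hR ⊢
    rintro _ ⟨x, hx, rfl⟩
    refine (mem_centralizer_map hf).mpr (h (V.comap f) (isEl_of_map hf hV)
      ((Subgroup.map_le_map_iff_of_injective hf).mp hVT) (fun y hy => ?_)
      (fun R hRT hel hne => ?_) hx)
    · rw [Subgroup.mem_normalizer_iff]
      intro z
      have h1 := Subgroup.mem_normalizer_iff.mp (hTV (Subgroup.mem_map_of_mem f hy)) (f z)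
      rwa [← map_inv, ← map_mul, ← map_mul, Subgroup.mem_map_iff_mem hf,
        Subgroup.mem_map_iff_mem hf] at h1
    · exact (big_map hf _ _).mp (hR (R.map f) (Subgroup.map_mono hRT) ((elemImage_map hf).mpr hel)
        fun hle => hne ((map_le_centralizer_map hf).mp hle))

/-- An elementary abelian subgroup of largest order centralises a subgroup with the cube bound. -/
theorem maxEl_centralizes_cube {S A V : Subgroup G} (hA : IsMaxEl 2 S A) (hVS : V ≤ S)
    (hV : Cfsg.IsElementaryAbelian 2 V)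
    (hb : ¬ A ≤ centralizer (V : Set G) → ((centralizer (V : Set G)).relIndex A) ^ 3 <
      ((centralizer (A : Set G)).relIndex V) ^ 2) :
    A ≤ centralizer (V : Set G) := by
  by_contra hne
  have h1 := (hb hne).trans_le (Nat.pow_le_pow_left (weight hA hVS hV) 2)
  have h2 : 1 ≤ (centralizer (V : Set G)).relIndex A :=
    Nat.one_le_iff_ne_zero.mpr (relIndex_ne_zero' _ _)
  exact absurd (Nat.pow_le_pow_right h2 (by norm_num : 2 ≤ 3)) (not_le.mpr h1)

theorem isE_thompson (S : Subgroup G) : IsE (Cfsg.thompsonSubgroupOf 2 S) := by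
  intro V hV hVJ hJV hR
  refine thompsonEl_le_of fun A hA => maxEl_centralizes_cube hA (hVJ.trans (thompsonEl_le S)) hV ?_
  exact fun hne => (hR A hA.le_thompsonEl (elemImage_of_isEl (isEl_iff.mpr hA.2.1)) hne).1

/-- `Ĵ(S)`. -/
def jHat (S : Subgroup G) : Subgroup G :=
  sSup {T | T ≤ S ∧ Cfsg.thompsonSubgroupOf 2 S ≤ T ∧ IsE T}

/-- `Ω₁(Z(Ĵ(S)))`. -/
def uHat (S : Subgroup G) : Subgroup G := omegaZ (jHat S)

theorem jHat_le (S : Subgroup G) : jHat S ≤ S := sSup_le fun _ h => h.1

theorem le_jHat {S T : Subgroup G} (h1 : T ≤ S) (h2 : Cfsg.thompsonSubgroupOf 2 S ≤ T)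
    (h3 : IsE T) : T ≤ jHat S := le_sSup ⟨h1, h2, h3⟩

theorem jHat_map {f : G →* K} (hf : Function.Injective f) (S : Subgroup G) :
    (jHat S).map f = jHat (S.map f) := by
  have hJ := JComp.thompson_map f hf S
  refine le_antisymm (Subgroup.map_le_iff_le_comap.mpr (sSup_le fun T hT =>
    Subgroup.map_le_iff_le_comap.mp (le_jHat (Subgroup.map_mono hT.1)
      (hJ ▸ Subgroup.map_mono hT.2.1) ((isE_map hf T).mpr hT.2.2)))) (sSup_le ?_)
  rintro T ⟨h1, h2, h3⟩
  have e := le_map_of_le h1
  rw [← e] at h1 h2 h3 ⊢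
  rw [hJ] at h2
  exact Subgroup.map_mono (le_jHat ((Subgroup.map_le_map_iff_of_injective hf).mp h1)
    ((Subgroup.map_le_map_iff_of_injective hf).mp h2) ((isE_map hf _).mp h3))

theorem uHat_map {f : G →* K} (hf : Function.Injective f) (S : Subgroup G) :
    (uHat S).map f = uHat (S.map f) := by
  rw [uHat, uHat, omegaZ_map hf, jHat_map hf]

theorem thompson_le_jHat (S : Subgroup G) : Cfsg.thompsonSubgroupOf 2 S ≤ jHat S :=
  le_jHat (thompsonEl_le S) le_rfl (isE_thompson S)

theorem uHat_le_maxEl {S A : Subgroup G} (hA : IsMaxEl 2 S A) : uHat S ≤ A := fun x hx =>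
  hA.mem_of_commute (jHat_le S hx.1.1) hx.1.2
    fun a ha => hx.2 a (thompson_le_jHat S (hA.le_thompsonEl ha))

theorem uHat_le_thompson (S : Subgroup G) : uHat S ≤ Cfsg.thompsonSubgroupOf 2 S := by
  obtain ⟨A, hA⟩ := JComp.exists_maxEl S
  exact (uHat_le_maxEl hA).trans hA.le_thompsonEl

theorem jHat_eq_of_between {S R : Subgroup G} (h1 : jHat S ≤ R) (h2 : R ≤ S) :
    jHat R = jHat S := by
  have hJ : Cfsg.thompsonSubgroupOf 2 R = Cfsg.thompsonSubgroupOf 2 S :=
    JComp.thompson_eq_of_between ((thompson_le_jHat S).trans h1) h2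
  refine le_antisymm (sSup_le fun T hT => le_jHat (hT.1.trans h2) (hJ ▸ hT.2.1) hT.2.2)
    (sSup_le fun T hT => le_jHat ((le_jHat hT.1 hT.2.1 hT.2.2).trans h1) (hJ ▸ hT.2.1) hT.2.2)

theorem normalizer_le_jHat (S : Subgroup G) :
    normalizer (S : Set G) ≤ normalizer (jHat S : Set G) :=
  normalizer_le_of_equivariant _ (fun g S => jHat_map (f := (MulAut.conj g).toMonoidHom)
    (MulAut.conj g).injective S) S

/-! ### The definitions of the prelude -/

theorem card_inf_mul_relIndex (A C : Subgroup G) :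
    Nat.card ↥(A ⊓ C) * C.relIndex A = Nat.card A := by
  rw [inf_comm, ← Subgroup.inf_relIndex_right, Subgroup.relIndex,
    ← Nat.card_congr (Subgroup.subgroupOfEquivOfLe (inf_le_right : C ⊓ A ≤ A)).toEquiv]
  exact Subgroup.card_mul_index _

theorem isEGroup_iff_top (X : Type u) [Group X] [Finite X] :
    Cfsg.IsEGroup X ↔ IsE (⊤ : Subgroup X) := by
  have hbig : ∀ V R : Subgroup X, Big V R ↔
      ((Nat.card V) ^ 2 * (Nat.card ↥(R ⊓ centralizer (V : Set X))) ^ 3 >
          (Nat.card R) ^ 3 * (Nat.card ↥(V ⊓ centralizer (R : Set X))) ^ 2 ∧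
        Nat.card ↥⁅V, R⁆ * Nat.card ↥(R ⊓ centralizer (V : Set X)) > Nat.card R) := by
    intro V R
    have hR := card_inf_mul_relIndex R (centralizer (V : Set X))
    have hV := card_inf_mul_relIndex V (centralizer (R : Set X))
    rw [Big]
    set a := Nat.card ↥(R ⊓ centralizer (V : Set X))
    set b := Nat.card ↥(V ⊓ centralizer (R : Set X))
    set e := (centralizer (V : Set X)).relIndex R
    set f := (centralizer (R : Set X)).relIndex V
    have ha : 0 < a := Nat.card_pos
    have hb : 0 < b := Nat.card_pos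
    rw [← hR, ← hV]
    refine and_congr ?_ ?_
    · rw [gt_iff_lt, show (a * e) ^ 3 * b ^ 2 = (a ^ 3 * b ^ 2) * e ^ 3 by ring,
        show (b * f) ^ 2 * a ^ 3 = (a ^ 3 * b ^ 2) * f ^ 2 by ring]
      exact (Nat.mul_lt_mul_left (by positivity)).symm
    · rw [gt_iff_lt, mul_comm (Nat.card ↥⁅V, R⁆) a]
      exact (Nat.mul_lt_mul_left ha).symm
  have hel : ∀ V R : Subgroup X, ElemImage R V ↔
      ⁅R, R⁆ ≤ centralizer (V : Set X) ∧ ∀ r ∈ R, r ^ 2 ∈ centralizer (V : Set X) := fun V R =>
    ⟨fun h => ⟨Subgroup.commutator_le.mpr h.2, h.1⟩,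
      fun h => ⟨h.2, fun r hr s hs => h.1 (Subgroup.commutator_mem_commutator hr hs)⟩⟩
  have hcen : ∀ V : Subgroup X, V ≤ center X ↔ ⊤ ≤ centralizer (V : Set X) := fun V =>
    ⟨fun h x _ => Subgroup.mem_centralizer_iff.mpr fun v hv =>
        (Subgroup.mem_center_iff.mp (h hv) x).symm,
      fun h v hv => Subgroup.mem_center_iff.mpr fun x =>
        (Subgroup.mem_centralizer_iff.mp (h (Subgroup.mem_top x)) v hv).symm⟩
  constructor
  · intro h V hV _ hTV hR
    exact (hcen V).mp (h V (Subgroup.normalizer_eq_top_iff.mp (top_le_iff.mp hTV)) hV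
      fun R h1 h2 h3 => (hbig V R).mp (hR R le_top ((hel V R).mpr ⟨h1, h2⟩) h3))
  · intro h V hVn hV hR
    haveI := hVn
    exact (hcen V).mpr (h V hV le_top (by rw [Subgroup.normalizer_eq_top])
      fun R _ h1 h3 => (hbig V R).mpr (hR R ((hel V R).mp h1).1 ((hel V R).mp h1).2 h3))

theorem isEGroup_iff (T : Subgroup G) : Cfsg.IsEGroup T ↔ IsE T := by
  rw [isEGroup_iff_top, ← isE_map (f := T.subtype) T.subtype_injective, ← MonoidHom.range_eq_map,
    Subgroup.range_subtype]

/-- `Ĵ` of the prelude, seen in the ambient group. -/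
theorem map_jHat (S : Subgroup G) : (Cfsg.jHat ↥S).map S.subtype = jHat S := by
  refine le_antisymm (Subgroup.map_le_iff_le_comap.mpr (sSup_le fun U hU =>
    Subgroup.map_le_iff_le_comap.mp (le_jHat (Subgroup.map_subtype_le U) ?_ ?_))) (sSup_le ?_)
  · exact Subgroup.map_mono hU.2
  · exact (isE_map S.subtype_injective U).mpr ((isEGroup_iff U).mp hU.1)
  · rintro T ⟨h1, h2, h3⟩
    have e : (T.subgroupOf S).map S.subtype = T := Subgroup.map_subgroupOf_eq_of_le h1
    rw [← e]
    refine Subgroup.map_mono (le_sSup (show T.subgroupOf S ∈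
      {U : Subgroup S | Cfsg.IsEGroup U ∧ Cfsg.thompsonSubgroup 2 S ≤ U} from ⟨?_, fun x hx => ?_⟩))
    · rw [isEGroup_iff, ← isE_map S.subtype_injective, e]; exact h3
    · exact h2 (Subgroup.mem_map_of_mem S.subtype hx)

theorem omegaOne_inf_centralizer (T : Subgroup G) :
    Cfsg.omegaOne 2 (T ⊓ centralizer (T : Set G)) = omegaZ T := by
  refine le_antisymm ((Subgroup.closure_le _).mpr fun x hx => ?_) fun x hx => ?_
  · exact ⟨⟨hx.1.1, hx.2⟩, fun s hs => Subgroup.mem_centralizer_iff.mp hx.1.2 s hs⟩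
  · exact Subgroup.subset_closure ⟨⟨hx.1.1, Subgroup.mem_centralizer_iff.mpr hx.2⟩, hx.1.2⟩

end Cfsg.Agent.Classical.SFourK
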