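import Cfsg.Agent.Lib.Classical.SFourK.SmallCase
import Cfsg.Agent.Lib.Block.SFourFree.LargeCase

/-!
An elementary abelian subgroup with the squared bound lies in `O₂(L)`.
-/

set_option autoImplicit false
set_option linter.unusedSectionVars false
set_option linter.style.haveILetI false

namespace Cfsg.Agent.Classical.SFourK

open Subgroup Cfsg.Agent.Invol Cfsg.Agent.Block.SFour
open scoped Pointwise commutatorElement IsMulCommutative

universe u

variable {L : Type u} [Group L] [Finite L]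

variable {S : Sylow 2 L}

set_option maxHeartbeats 1600000 in
/-- There is no such subgroup outside `O₂(L)`. -/
theorem Min.large_case (h : Min S) {V : Subgroup L} (hV : Cfsg.IsElementaryAbelian 2 V)
    (hVT : V ≤ bigE S) (hTV : bigE S ≤ normalizer (V : Set L))
    (hR : ∀ R ≤ qZero S, ElemImage R V → ¬ R ≤ centralizer (V : Set L) →
      ((centralizer (V : Set L)).relIndex R) ^ 3 < ((centralizer (R : Set L)).relIndex V) ^ 2) :
    V ≤ Cfsg.pCore 2 L := by
  classical
  by_contra hVQ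
  haveI : Fact (Nat.Prime 2) := ⟨Nat.prime_two⟩
  set Q := Cfsg.pCore 2 L with hQ
  haveI hQn : Q.Normal := Grp.pCore_isNormal
  have hQp : IsPGroup 2 Q := Grp.pCore_isPGroup
  set f := QuotientGroup.mk' Q with hf
  have hmem : ∀ x, f x = 1 ↔ x ∈ Q := fun x => QuotientGroup.eq_one_iff x
  have hVS : V ≤ (S : Subgroup L) := hVT.trans (bigE_le S)
  obtain ⟨g, hgkey⟩ : ∃ g : L, ∀ a ∈ V, SThree.IsTwoEl (f (g * a * g⁻¹ * a⁻¹)) → a ∈ Q := by
    haveI : (centralizer (Cfsg.layer (L ⧸ Q) : Set (L ⧸ Q))).Normal := inferInstance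
    set N := (centralizer (Cfsg.layer (L ⧸ Q) : Set (L ⧸ Q))).comap f with hN
    rcases h.dichotomy N with hO | hS
    · -- no components
      have hlayer : Cfsg.layer (L ⧸ Q) = ⊥ := by
        refine Grp.eq_bot_of_perfect_of_comm Grp.layer_perfect fun y hy => ?_
        set C := centralizer (Cfsg.layer (L ⧸ Q) : Set (L ⧸ Q))
        have hp : IsPGroup 2 ((L ⧸ Q) ⧸ C) := by
          intro z
          obtain ⟨z, rfl⟩ := QuotientGroup.mk'_surjective C z
          obtain ⟨x, rfl⟩ := QuotientGroup.mk'_surjective Q z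
          obtain ⟨k, hk⟩ := Invol.exists_pow_coprime (p := 2) x
          refine ⟨k, ?_⟩
          rw [← map_pow, ← map_pow]
          exact (QuotientGroup.eq_one_iff _).mpr (hO (Invol.mem_pResidual hk))
        haveI : Group.IsNilpotent ((L ⧸ Q) ⧸ C) := hp.isNilpotent
        have h1 : (Cfsg.layer (L ⧸ Q)).map (QuotientGroup.mk' C) = ⊥ :=
          Grp.eq_bot_of_perfect_of_solvable
            (by rw [← Subgroup.map_commutator, Grp.layer_perfect]) inferInstance
        exact (QuotientGroup.eq_one_iff y).mp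
          ((Subgroup.eq_bot_iff_forall _).mp h1 _ (Subgroup.mem_map_of_mem _ hy))
      set Eb := Cfsg.pPrimeCore 2 (L ⧸ Q) with hEb
      haveI hEbn : Eb.Normal := Grp.pPrimeCore_isNormal
      have hodd : Odd (Nat.card Eb) := Nat.coprime_two_right.mp Grp.pPrimeCore_coprime
      have hF : Cfsg.fittingSubgroup (L ⧸ Q) ≤ Eb := by
        rw [Transfer.fittingSubgroup_eq_iSup_pCore]
        refine iSup_le fun q => ?_
        haveI := Fact.mk (Nat.prime_of_mem_primeFactors q.2)
        by_cases hq : (q : ℕ) = 2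
        · rw [hq, pCore_quot_bot]; exact bot_le
        · refine Grp.le_pPrimeCore Grp.pCore_isNormal ?_
          obtain ⟨k, hk⟩ := (Grp.pCore_isPGroup (p := (q : ℕ)) (G := L ⧸ Q)).exists_card_eq
          rw [hk]
          exact ((Nat.coprime_primes (Nat.prime_of_mem_primeFactors q.2) Nat.prime_two).mpr hq).pow_left k
      have hfaith : ∀ a ∈ V.map f, (∀ x ∈ Eb, a * x = x * a) → a = 1 := by
        rintro _ ⟨v, hv, rfl⟩ hall
        have h1 : f v ∈ Eb := hF (Grp.centralizer_fitting_le_of_layer_eq_bot hlayer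
          (Subgroup.centralizer_le hF (Subgroup.mem_centralizer_iff.mpr fun x hx => (hall x hx).symm)))
        exact eq_one_of_two_odd hodd (k := 1) (by rw [pow_one, ← map_pow, hV.2 v hv, map_one])
          (congrArg Subtype.val (pow_card_eq_one' (x := (⟨f v, h1⟩ : Eb))))
      obtain ⟨gb, hgE, hgreg⟩ := exists_regular hodd _ (V.map f) rfl (isEl_map hV f)
        (by rw [Subgroup.normalizer_eq_top]; exact le_top) hfaith
      obtain ⟨g, rfl⟩ := QuotientGroup.mk'_surjective Q gb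
      refine ⟨g, fun a ha htwo => ?_⟩
      obtain ⟨k, hk⟩ := htwo
      have hxE : f (g * a * g⁻¹ * a⁻¹) ∈ Eb := by
        have e : f (g * a * g⁻¹ * a⁻¹) = f g * (f a * (f g)⁻¹ * (f a)⁻¹) := by
          simp only [map_mul, map_inv, mul_assoc]
        rw [e]
        exact mul_mem hgE (hEbn.conj_mem _ (inv_mem hgE) _)
      have h4 := eq_one_of_two_odd hodd hk
        (congrArg Subtype.val (pow_card_eq_one' (x := (⟨f (g * a * g⁻¹ * a⁻¹), hxE⟩ : Eb))))
      rw [map_mul, map_mul, map_mul, map_inv, map_inv, mul_inv_eq_one, mul_inv_eq_iff_eq_mul] at h4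
      exact (hmem _).mp (hgreg _ ⟨a, ha, rfl⟩ h4.symm)
    · obtain ⟨gb, hgb⟩ := SThree.exists_regular_layer (h.loc.noThree.quotient Q)
        (fun H _ => kgroup_of_surjective h.loc.kgroup f (QuotientGroup.mk'_surjective Q) H)
        (isEl_map hV f) (by
          rintro _ ⟨v, hv, rfl⟩ hvC
          exact (hmem v).mpr (hS ⟨hVS hv, hvC⟩))
      obtain ⟨g, rfl⟩ := QuotientGroup.mk'_surjective Q gb
      refine ⟨g, fun a ha htwo => (hmem a).mp (hgb _ ⟨a, ha, rfl⟩ ?_)⟩
      obtain ⟨k, hk⟩ := htwo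
      refine ⟨k, ?_⟩
      have e : f a * f g * (f a)⁻¹ * (f g)⁻¹ = (f (g * a * g⁻¹ * a⁻¹))⁻¹ := by
        simp only [map_mul, map_inv, mul_inv_rev, inv_inv, mul_assoc]
      rw [e, inv_pow, hk, inv_one]
  set V' := V.map (MulAut.conj g).toMonoidHom with hV'
  have hinj : Function.Injective (MulAut.conj g).toMonoidHom := (MulAut.conj g).injective
  have hV'el : Cfsg.IsElementaryAbelian 2 V' := isEl_map hV _
  set V₀ := V ⊓ Q with hV₀
  set V₀' := V' ⊓ Q with hV₀'
  have hV₀Q : V₀ ≤ qZero S := (inf_le_inf_right Q hVT).trans (bigE_inf_le S)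
  have hV₀'e : V₀.map (MulAut.conj g).toMonoidHom = V₀' := by
    rw [hV₀, Subgroup.map_inf _ _ _ hinj, hV₀', hV']
    congr 1
    refine le_antisymm ?_ fun q hq => ⟨g⁻¹ * q * g⁻¹⁻¹, hQn.conj_mem q hq g⁻¹, by simp [mul_assoc]⟩
    rintro _ ⟨q, hq, rfl⟩
    exact hQn.conj_mem q hq g
  have hV₀'Q : V₀' ≤ qZero S := by
    rw [← hV₀'e]
    rintro _ ⟨x, hx, rfl⟩
    exact (qZero_normal S).conj_mem x (hV₀Q hx) g
  have hNV : qZero S ≤ normalizer (V : Set L) := le_trans le_sup_right hTV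
  have hNV' : qZero S ≤ normalizer (V' : Set L) := by
    intro q hq
    have h1 : q ∈ (normalizer (V : Set L)).map (MulAut.conj g).toMonoidHom :=
      ⟨g⁻¹ * q * g⁻¹⁻¹, hNV ((qZero_normal S).conj_mem q hq g⁻¹), by simp [mul_assoc]⟩
    exact Subgroup.le_normalizer_map _ h1
  have hR' : ∀ R ≤ qZero S, ElemImage R V' → ¬ R ≤ centralizer (V' : Set L) →
      ((centralizer (V' : Set L)).relIndex R) ^ 3 < ((centralizer (R : Set L)).relIndex V') ^ 2 := by
    intro R hRQ hel hne
    have hR' : R = (R.map (MulAut.conj g⁻¹).toMonoidHom).map (MulAut.conj g).toMonoidHom := by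
      rw [Subgroup.map_map]
      ext x
      simp [mul_assoc]
    set R' := R.map (MulAut.conj g⁻¹).toMonoidHom with hR'def
    have hR'Q : R' ≤ qZero S := by
      rintro _ ⟨r, hr, rfl⟩
      exact (qZero_normal S).conj_mem r (hRQ hr) g⁻¹
    rw [hR', hV', elemImage_map hinj] at hel
    rw [hR', hV', map_le_centralizer_map hinj] at hne
    rw [hR', hV', relIndex_centralizer_map hinj, relIndex_centralizer_map hinj]
    exact hR R' hR'Q hel hne
  set Hs := V ⊔ V' with hHs
  have hVH : V ≤ Hs := le_sup_left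
  have hV'H : V' ≤ Hs := le_sup_right
  have hHN0 : Hs ≤ jClosure S := sup_le (hVT.trans (bigE_le_jClosure S)) (by
    rintro _ ⟨v, hv, rfl⟩
    exact (jClosure_normal S).conj_mem v (bigE_le_jClosure S (hVT hv)) g)
  set Y₂ := V₀ ⊔ V₀' with hY₂
  have hV₀Y : V₀ ≤ Y₂ := le_sup_left
  have hV₀'Y : V₀' ≤ Y₂ := le_sup_right
  have hcomm_mem : ∀ {U : Subgroup L}, qZero S ≤ normalizer (U : Set L) →
      ∀ q ∈ qZero S, ∀ u ∈ U, ⁅q, u⁆ ∈ U ⊓ Q := by
    intro U hU q hq u hu
    refine ⟨?_, ?_⟩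
    · rw [commutatorElement_def]
      exact U.mul_mem (Grp.mem_conj_normalizer (hU hq) hu) (U.inv_mem hu)
    · exact Subgroup.commutator_le_left Q ⊤ (Subgroup.commutator_mem_commutator hq.1 (mem_top u))
  have hconj : ∀ h ∈ Hs, ∀ w ∈ Y₂, h * w * h⁻¹ ∈ Y₂ := by
    have key : ∀ {U U₀ : Subgroup L}, Cfsg.IsElementaryAbelian 2 U → qZero S ≤ normalizer (U : Set L) →
        U ⊓ Q = U₀ → ∀ {U₁ : Subgroup L}, U₁ ≤ qZero S → ∀ u ∈ U, ∀ w ∈ U₀ ⊔ U₁,
        u * w * u⁻¹ ∈ U₀ ⊔ U₁ := by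
      intro U U₀ hU hNU e U₁ hU₁ u hu w hw
      have h1 : U₀ ⊔ U₁ ≤ (U₀ ⊔ U₁).comap (MulAut.conj u).toMonoidHom := by
        refine sup_le (fun x hx => ?_) (fun x hx => ?_) <;>
          show u * x * u⁻¹ ∈ U₀ ⊔ U₁
        · rw [(isEl_iff.mp hU).1 u hu x (e.symm ▸ hx : x ∈ U ⊓ Q).1, mul_inv_cancel_right]
          exact le_sup_left (b := U₁) hx
        · have h2 := hcomm_mem hNU x (hU₁ hx) u hu
          rw [e] at h2
          rw [show u * x * u⁻¹ = ⁅x, u⁆⁻¹ * x by simp only [commutatorElement_def]; group]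
          exact mul_mem (inv_mem (le_sup_left (b := U₁) h2)) (le_sup_right (a := U₀) hx)
      exact h1 hw
    intro h₁ hh₁
    rw [hHs, ← Subgroup.closure_eq V, ← Subgroup.closure_eq V', ← Subgroup.closure_union] at hh₁
    induction hh₁ using Subgroup.closure_induction with
    | mem y hy =>
      intro w hw
      rcases hy with hy | hy
      · exact key hV hNV rfl hV₀'Q y hy w hw
      · rw [hY₂, sup_comm] at hw ⊢
        exact key hV'el hNV' rfl hV₀Q y hy w hw
    | one => intro w hw; simpa using hw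
    | mul a b _ _ iha ihb =>
      intro w hw
      rw [show a * b * w * (a * b)⁻¹ = a * (b * w * b⁻¹) * a⁻¹ by group]
      exact iha _ (ihb w hw)
    | inv a _ iha =>
      intro w hw
      have h1 : Y₂.map (MulAut.conj a).toMonoidHom = Y₂ :=
        Subgroup.eq_of_le_of_card_ge (by rintro _ ⟨x, hx, rfl⟩; exact iha x hx)
          (Subgroup.card_map_of_injective (f := (MulAut.conj a).toMonoidHom) (MulAut.conj a).injective).ge
      obtain ⟨x, hx, hxe⟩ := h1.symm ▸ hw
      rw [← hxe]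
      simpa [mul_assoc] using hx
  -- commutators of `Q₀` with `H`
  have hQH : ∀ h ∈ Hs, ∀ q ∈ qZero S, ⁅q, h⁆ ∈ Y₂ := by
    intro h₁ hh₁
    rw [hHs, ← Subgroup.closure_eq V, ← Subgroup.closure_eq V', ← Subgroup.closure_union] at hh₁
    induction hh₁ using Subgroup.closure_induction with
    | mem y hy =>
      intro q hq
      rcases hy with hy | hy
      · exact hV₀Y (hcomm_mem hNV q hq y hy)
      · exact hV₀'Y (hcomm_mem hNV' q hq y hy)
    | one => intro q _; simp
    | mul a b ha hb iha ihb =>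
      intro q hq
      rw [show ⁅q, a * b⁆ = ⁅q, a⁆ * (a * ⁅q, b⁆ * a⁻¹) by simp only [commutatorElement_def]; group]
      refine mul_mem (iha q hq) (hconj a ?_ _ (ihb q hq))
      rwa [hHs, ← Subgroup.closure_eq V, ← Subgroup.closure_eq V', ← Subgroup.closure_union]
    | inv a ha iha =>
      intro q hq
      rw [show ⁅q, a⁻¹⁆ = a⁻¹ * ⁅q, a⁆⁻¹ * a⁻¹⁻¹ by simp only [commutatorElement_def]; group]
      refine hconj a⁻¹ ?_ _ (inv_mem (iha q hq))
      rw [hHs, ← Subgroup.closure_eq V, ← Subgroup.closure_eq V', ← Subgroup.closure_union]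
      exact inv_mem ha
  -- the central part
  set CH := centralizer (Hs : Set L) with hCH
  set E₂ := (V₀ ⊓ CH) ⊔ (V₀' ⊓ CH) with hE₂
  have hE₂C : E₂ ≤ CH := sup_le inf_le_right inf_le_right
  have hE₂Y : E₂ ≤ Y₂ := sup_le_sup inf_le_left inf_le_left
  have hE₂el : Cfsg.IsElementaryAbelian 2 E₂ :=
    isEl_sup (isEl_mono hV (inf_le_left.trans inf_le_left))
      (isEl_mono hV'el (inf_le_left.trans inf_le_left))
      fun a ha b hb => (Subgroup.mem_centralizer_iff.mp ha.2 b (hV'H hb.1.1)).symm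
  have hY₂Q : Y₂ ≤ Q := sup_le inf_le_right inf_le_right
  have hY₂H : Y₂ ≤ Hs := sup_le (inf_le_left.trans hVH) (inf_le_left.trans hV'H)
  haveI hEn : (E₂.subgroupOf Hs).Normal := ⟨fun x hx k => by
    rw [Subgroup.mem_subgroupOf] at hx ⊢
    show (k : L) * x * (k : L)⁻¹ ∈ E₂
    rw [Subgroup.mem_centralizer_iff.mp (hE₂C hx) k k.2, mul_inv_cancel_right]
    exact hx⟩
  set π := QuotientGroup.mk' (E₂.subgroupOf Hs) with hπ
  have hπ1 : ∀ x : Hs, π x = 1 ↔ (x : L) ∈ E₂ := fun x => QuotientGroup.eq_one_iff x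
  set Yb := (Y₂.subgroupOf Hs).map π with hYb
  haveI : (Y₂.subgroupOf Hs).Normal := ⟨fun x hx k => hconj k k.2 x hx⟩
  haveI : Yb.Normal := (inferInstance : (Y₂.subgroupOf Hs).Normal).map π (QuotientGroup.mk'_surjective _)
  have hYbel : Cfsg.IsElementaryAbelian 2 Yb := by
    have hsplit : Yb = (V₀.subgroupOf Hs).map π ⊔ (V₀'.subgroupOf Hs).map π := by
      rw [hYb, hY₂, ← Subgroup.map_sup,
        Subgroup.subgroupOf_sup (inf_le_left.trans hVH) (inf_le_left.trans hV'H)]
    rw [hsplit]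
    refine isEl_sup (isEl_map ?_ π) (isEl_map ?_ π) ?_
    · exact isEl_of_map Hs.subtype_injective
        (isEl_mono hV (le_trans (Subgroup.map_comap_le _ _) inf_le_left))
    · exact isEl_of_map Hs.subtype_injective
        (isEl_mono hV'el (le_trans (Subgroup.map_comap_le _ _) inf_le_left))
    · rintro _ ⟨a, ha, rfl⟩ _ ⟨b, hb, rfl⟩
      rw [← commutatorElement_eq_one_iff_mul_comm, ← map_commutatorElement, hπ1]
      refine le_sup_left (b := V₀' ⊓ CH) ?_
      replace ha : (a : L) ∈ V₀ := ha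
      replace hb : (b : L) ∈ V₀' := hb
      have h1 : ⁅(a : L), (b : L)⁆ ∈ V' ⊓ Q := hcomm_mem hNV' a (hV₀Q ha) b hb.1
      have h2 : ⁅(b : L), (a : L)⁆ ∈ V ⊓ Q := hcomm_mem hNV b (hV₀'Q hb) a ha.1
      rw [← commutatorElement_inv] at h2
      have h3 : ⁅(a : L), (b : L)⁆ ∈ V₀ := by
        have h4 := (V ⊓ Q).inv_mem h2
        rw [inv_inv] at h4
        exact h4
      refine ⟨h3, Subgroup.mem_centralizer_iff.mpr fun k hk => ?_⟩
      have : Hs ≤ centralizer ({⁅(a : L), (b : L)⁆} : Set L) := sup_le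
        (fun v hv => Subgroup.mem_centralizer_singleton_iff.mpr ((isEl_iff.mp hV).1 v hv _ h3.1))
        (fun v hv => Subgroup.mem_centralizer_singleton_iff.mpr ((isEl_iff.mp hV'el).1 v hv _ h1.1))
      exact Subgroup.mem_centralizer_singleton_iff.mp (this hk)
  haveI := hYbel.1
  set α : Hs →* MulAut Yb := (MulAut.conjNormal : _ →* MulAut Yb).comp π with hα
  have hX2 : ∀ v : Yb, v ^ 2 = 1 := fun v =>
    Subtype.ext (by rw [SubmonoidClass.coe_pow]; exact hYbel.2 v v.2)
  have hαker : ∀ x : Hs, (x : L) ∈ Y₂ → α x = 1 := fun x hx =>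
    mem_centralizer_iff_conjNormal.mpr (Subgroup.mem_centralizer_iff.mpr fun w hw =>
      (isEl_iff.mp hYbel).1 w hw (π x) ⟨x, hx, rfl⟩)
  set QH := Q.subgroupOf Hs with hQH'
  haveI : QH.Normal := hQn.subgroupOf Hs
  set U := fixOf α QH with hUdef
  have hU : ∀ k : Hs, ∀ u ∈ U, α k u ∈ U := fun k u hu q hq => by
    have := hu _ ((inferInstance : QH.Normal).conj_mem q hq k⁻¹)
    rw [inv_inv, map_mul, map_mul, MulAut.mul_apply, MulAut.mul_apply, map_inv] at this
    conv_rhs => rw [← this, MulAut.apply_inv_self]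
  set β := restrictAct α U hU with hβ
  have hQker : ∀ x : Hs, (x : L) ∈ Q → β x = 1 := fun x hx =>
    MulEquiv.ext fun u => Subtype.ext (u.2 x hx)
  have hHsQ₀ : ∀ x : Hs, (x : L) ∈ Q → (x : L) ∈ qZero S := fun x hx => ⟨hx, hHN0 x.2⟩
  have hyK : ∀ y : Hs, Odd (orderOf (y : L)) → β y = 1 → (y : L) = 1 := by
    intro y hyo hβy
    have hyo' : Odd (orderOf y) := by rwa [← Subgroup.orderOf_coe]
    have hαy : α y = 1 := by
      refine eq_one_of_fix_centralizer (isPGroup_of_inv_two hX2) (P := QH.map α)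
        ((hQp.comap_subtype).map α) (Nat.coprime_two_right.mpr hyo')
        (by rw [← map_pow, pow_orderOf_eq_one, map_one]) ?_ fun v hv => ?_
      · rintro _ ⟨q, hq, rfl⟩
        show α q * α y = α y * α q
        rw [← commutatorElement_eq_one_iff_mul_comm, ← map_commutatorElement]
        exact hαker _ (hQH y y.2 q (hHsQ₀ q hq))
      · have hvU : v ∈ U := fun q hq => hv _ ⟨q, hq, rfl⟩
        exact congrArg Subtype.val (DFunLike.congr_fun hβy (⟨v, hvU⟩ : U))
    have hyY : ∀ w ∈ Y₂, (y : L) * w = w * y := by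
      intro w hw
      have h1 := Subgroup.mem_centralizer_iff.mp (mem_centralizer_iff_conjNormal.mp hαy)
        (π ⟨w, hY₂H hw⟩) ⟨⟨w, hY₂H hw⟩, hw, rfl⟩
      replace h1 : π ⟨w, hY₂H hw⟩ * π y = π y * π ⟨w, hY₂H hw⟩ := h1
      rw [← commutatorElement_eq_one_iff_mul_comm, ← map_commutatorElement, hπ1] at h1
      have h2 : ⁅(y : L), w⁆ ∈ E₂ := by rw [← commutatorElement_inv]; exact inv_mem h1
      refine commutatorElement_eq_one_iff_mul_comm.mp (eq_one_of_step (k := 1) (w := w) hyo ?_ ?_ ?_)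
      · exact Subgroup.mem_centralizer_iff.mp (hE₂C h2) y y.2
      · rw [commutatorElement_def]; group
      · rw [pow_one]; exact hE₂el.2 _ h2
    have hyQ₀ : (y : L) ∈ centralizer (qZero S : Set L) := Subgroup.mem_centralizer_iff.mpr fun q hq => by
      have h1 := hQH y y.2 q hq
      have h2 : ⁅(y : L), q⁆ ∈ Y₂ := by rw [← commutatorElement_inv]; exact inv_mem h1
      obtain ⟨j, hj⟩ := hQp ⟨_, hY₂Q h2⟩
      exact (commutatorElement_eq_one_iff_mul_comm.mp (eq_one_of_step (k := j) (w := q) hyo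
        (hyY _ h2) (by rw [commutatorElement_def]; group) (congrArg Subtype.val hj))).symm
    have hyQ : (y : L) ∈ Q :=
      h.centralizer_moved_le (Subgroup.centralizer_le h.moved_le_qZero hyQ₀)
    obtain ⟨j, hj⟩ := hQp ⟨_, hyQ⟩
    exact eq_one_of_two_odd hyo (congrArg Subtype.val hj) (pow_orderOf_eq_one _)
  set A' := V.subgroupOf Hs with hA'
  haveI : (Cfsg.pCore 2 β.range).Normal := Grp.pCore_isNormal
  set P := (Cfsg.pCore 2 β.range).comap β.rangeRestrict with hP
  haveI : P.Normal := (inferInstance : (Cfsg.pCore 2 β.range).Normal).comap _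
  have hfaith2 : ∀ a ∈ A', a ∈ P → (a : L) ∈ Q := by
    intro a ha haP
    rw [hA', Subgroup.mem_subgroupOf] at ha
    set x0 : Hs := ⟨g * (a : L) * g⁻¹ * (a : L)⁻¹, mul_mem (hV'H ⟨a, ha, rfl⟩) (inv_mem (hVH ha))⟩
      with hx0
    have hia : (a : L)⁻¹ = a := inv_eq_of_mul_eq_one_right (by rw [← pow_two, hV.2 _ ha])
    have hc : ⁅a, x0⁆ = (x0 ^ 2)⁻¹ := by
      refine Subtype.ext ?_
      simp only [hx0, commutatorElement_def, Subgroup.coe_mul, Subgroup.coe_inv, pow_two, mul_inv_rev, inv_inv]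
      calc (a : L) * (g * (a : L) * g⁻¹ * (a : L)⁻¹) * (a : L)⁻¹ * ((a : L) * (g * ((a : L)⁻¹ * g⁻¹)))
          = (a : L) * g * ((a : L) * g⁻¹ * (a : L)⁻¹ * g * (a : L)⁻¹ * g⁻¹) := by group
        _ = _ := by rw [hia]; group
    have hcP : ⁅a, x0⁆ ∈ P := by
      rw [commutatorElement_def, mul_assoc a x0, mul_assoc]
      exact mul_mem haP ((inferInstance : P.Normal).conj_mem _ (inv_mem haP) x0)
    rw [hc, inv_mem_iff] at hcP
    obtain ⟨k, hk⟩ := Grp.pCore_isPGroup (⟨β.rangeRestrict (x0 ^ 2), hcP⟩ : Cfsg.pCore 2 β.range)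
    have hk' : β x0 ^ 2 ^ (k + 1) = 1 := by
      rw [pow_succ', pow_mul, ← map_pow β x0 2]
      exact congrArg (fun w : Cfsg.pCore 2 β.range => ((w : β.range) : MulAut U)) hk
    obtain ⟨m, hm⟩ := Invol.exists_pow_coprime (p := 2) (x0 : L)
    set y := x0 ^ 2 ^ m with hy
    have hyo : Odd (orderOf (y : L)) := by
      rw [hy, SubmonoidClass.coe_pow]; exact Nat.coprime_two_right.mp hm
    have hβy : β y = 1 := by
      refine eq_one_of_two_odd (k := k + 1) hyo ?_ ?_
      · rw [← map_pow, hy, ← pow_mul, mul_comm, pow_mul, map_pow, map_pow, hk', one_pow]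
      · rw [← map_pow, show y ^ orderOf (y : L) = 1 from by
          rw [Subgroup.orderOf_coe]; exact pow_orderOf_eq_one y, map_one]
    have hy1 := hyK y hyo hβy
    rw [hy, SubmonoidClass.coe_pow] at hy1
    exact hgkey _ ha ⟨m, by rw [← map_pow, hy1, map_one]⟩
  have hA'el : Cfsg.IsElementaryAbelian 2 A' :=
    isEl_of_map Hs.subtype_injective (isEl_mono hV (Subgroup.map_comap_le _ _))
  have hdom := SThree.dom_series _ U β rfl
    (fun u => Subtype.ext (by rw [SubmonoidClass.coe_pow]; exact hX2 _))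
    (h.loc.noThree.subgroup Hs) (kgroup_subgroup h.loc.kgroup Hs) A' hA'el
  set e := Q.relIndex V with he
  have hcard : P.relIndex A' = e := by
    rw [← Subgroup.inf_relIndex_right]
    have h1 : P ⊓ A' = QH ⊓ A' := le_antisymm
      (le_inf (fun a ha => hfaith2 a ha.2 ha.1) inf_le_right)
      (inf_le_inf_right _ fun q hq => Subgroup.mem_comap.mpr (by
        rw [show β.rangeRestrict q = 1 from Subtype.ext (hQker q hq)]; exact one_mem _))
    rw [h1, Subgroup.inf_relIndex_right, hQH', hA', he,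
      ← Subgroup.relIndex_map_map_of_injective _ _ Hs.subtype_injective,
      Subgroup.subgroupOf_map_subtype, Subgroup.subgroupOf_map_subtype, inf_eq_left.mpr hVH,
      ← Subgroup.inf_relIndex_right (Q ⊓ Hs) V, inf_assoc, inf_eq_right.mpr hVH,
      Subgroup.inf_relIndex_right]
  set j := CH.relIndex V₀' with hj
  set j' := CH.relIndex V₀ with hj'
  have hfix : (fixOf β A').index ≤ j := by
    rw [hβ, index_restrictAct]
    set F := fixOf α A' with hF
    refine le_trans (?_ : F.relIndex U ≤ F.index) ?_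
    · rw [← Subgroup.relIndex_top_right]
      exact Subgroup.relIndex_le_of_le_right le_top (relIndex_ne_zero' _ _)
    -- the homomorphism from `V₀'`
    let ψ : (V₀'.subgroupOf Hs) →* Yb :=
      ((π.comp (V₀'.subgroupOf Hs).subtype)).codRestrict Yb fun x => ⟨x, hV₀'Y x.2, rfl⟩
    have hgen : ψ.range ⊔ F = ⊤ := by
      rw [eq_top_iff]
      rintro ⟨w, hw⟩ -
      obtain ⟨x, hx, rfl⟩ := hw
      replace hx : (x : L) ∈ V₀ ⊔ V₀' := hx
      have hx' : x ∈ V₀.subgroupOf Hs ⊔ V₀'.subgroupOf Hs := by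
        rw [← Subgroup.subgroupOf_sup (inf_le_left.trans hVH) (inf_le_left.trans hV'H)]
        exact hx
      rw [← Subgroup.closure_eq (V₀.subgroupOf Hs), ← Subgroup.closure_eq (V₀'.subgroupOf Hs),
        ← Subgroup.closure_union] at hx'
      clear hx
      suffices ∀ hw, (⟨π x, hw⟩ : Yb) ∈ ψ.range ⊔ F from this _
      induction hx' using Subgroup.closure_induction with
      | mem z hz =>
        intro hw
        rcases hz with hz | hz
        · refine le_sup_right (a := ψ.range) fun a ha => Subtype.ext ?_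
          show (MulAut.conjNormal (π a) ⟨π z, hw⟩ : Yb).1 = π z
          rw [MulAut.conjNormal_apply]
          show π a * π z * (π a)⁻¹ = π z
          rw [← map_inv, ← map_mul, ← map_mul]
          congr 1
          rw [show a * z = z * a from
            Subtype.ext ((isEl_iff.mp hV).1 a ha z (Subgroup.mem_subgroupOf.mp hz).1), mul_inv_cancel_right]
        · exact le_sup_left (b := F) ⟨⟨z, hz⟩, rfl⟩
      | one => intro hw; convert one_mem (ψ.range ⊔ F); exact map_one π
      | mul a b ha hb iha ihb =>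
        intro hw
        have hle : closure ((V₀.subgroupOf Hs : Set Hs) ∪ (V₀'.subgroupOf Hs : Set Hs)) ≤ Y₂.subgroupOf Hs := by
          rw [Subgroup.closure_union, Subgroup.closure_eq, Subgroup.closure_eq]
          exact sup_le (fun z hz => hV₀Y hz) (fun z hz => hV₀'Y hz)
        have h1 := mul_mem (iha (hle ha) (Subgroup.mem_map_of_mem π (hle ha))) (ihb (hle hb) (Subgroup.mem_map_of_mem π (hle hb)))
        convert h1 using 1
        exact Subtype.ext (map_mul π a b)
      | inv a ha iha =>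
        intro hw
        have hle : closure ((V₀.subgroupOf Hs : Set Hs) ∪ (V₀'.subgroupOf Hs : Set Hs)) ≤ Y₂.subgroupOf Hs := by
          rw [Subgroup.closure_union, Subgroup.closure_eq, Subgroup.closure_eq]
          exact sup_le (fun z hz => hV₀Y hz) (fun z hz => hV₀'Y hz)
        have h1 := inv_mem (iha (hle ha) (Subgroup.mem_map_of_mem π (hle ha)))
        convert h1 using 1
        exact Subtype.ext (map_inv π a)
    have h1 : F.index = (F.comap ψ).index := by
      rw [Subgroup.index_comap, ← Subgroup.relIndex_sup_right ψ.range F, hgen,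
        Subgroup.relIndex_top_right]
    rw [h1]
    refine le_trans (Nat.le_of_dvd (Nat.pos_of_ne_zero Subgroup.index_ne_zero_of_finite)
      (Subgroup.index_dvd_of_le (H := (CH.subgroupOf Hs).subgroupOf (V₀'.subgroupOf Hs))
        fun z hz => ?_)) (le_of_eq ?_)
    · show ψ z ∈ F
      have hz' : π (z : Hs) = 1 := (hπ1 _).mpr (le_sup_right (a := V₀ ⊓ CH) ⟨z.2, hz⟩)
      have : ψ z = 1 := Subtype.ext hz'
      rw [this]; exact one_mem F
    · show (CH.subgroupOf Hs).relIndex (V₀'.subgroupOf Hs) = j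
      rw [← Subgroup.relIndex_map_map_of_injective _ _ Hs.subtype_injective,
        Subgroup.subgroupOf_map_subtype, Subgroup.subgroupOf_map_subtype,
        inf_eq_left.mpr (inf_le_left.trans hV'H), ← Subgroup.inf_relIndex_right (CH ⊓ Hs) V₀',
        inf_assoc, inf_eq_right.mpr (inf_le_left.trans hV'H), Subgroup.inf_relIndex_right]
  have hbd : ∀ {U₁ U₂ : Subgroup L}, Cfsg.IsElementaryAbelian 2 U₁ → Cfsg.IsElementaryAbelian 2 U₂ →
      U₁ ⊔ U₂ = Hs → (¬ U₂ ⊓ Q ≤ centralizer (U₁ : Set L) →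
        ((centralizer (U₁ : Set L)).relIndex (U₂ ⊓ Q)) ^ 3 <
          ((centralizer ((U₂ ⊓ Q : Subgroup L) : Set L)).relIndex U₁) ^ 2) →
      1 < CH.relIndex (U₂ ⊓ Q) →
      (CH.relIndex (U₂ ⊓ Q)) ^ 3 < (Q.relIndex U₁ * CH.relIndex (U₁ ⊓ Q)) ^ 2 := by
    intro U₁ U₂ h₁ h₂ hsup hb hgt
    have h3 : centralizer (U₁ : Set L) ⊓ (U₂ ⊓ Q) = CH ⊓ (U₂ ⊓ Q) := by
      refine le_antisymm (le_inf ?_ inf_le_right)
        (inf_le_inf_right _ (Subgroup.centralizer_le (SetLike.coe_subset_coe.mpr (hsup ▸ le_sup_left))))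
      rw [hCH, ← hsup, centralizer_sup]
      exact le_inf inf_le_left fun x hx =>
        Subgroup.mem_centralizer_iff.mpr fun u hu => (isEl_iff.mp h₂).1 u hu x hx.2.1
    rw [← Subgroup.inf_relIndex_right CH (U₂ ⊓ Q), ← h3, Subgroup.inf_relIndex_right] at hgt ⊢
    refine (hb fun hle => by rw [Subgroup.relIndex_eq_one.mpr hle] at hgt; omega).trans_le
      (Nat.pow_le_pow_left ?_ 2)
    have h4 : CH ⊓ (U₁ ⊓ Q) ≤ centralizer ((U₂ ⊓ Q : Subgroup L) : Set L) := inf_le_left.trans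
      (Subgroup.centralizer_le (SetLike.coe_subset_coe.mpr (inf_le_left.trans (hsup ▸ le_sup_right))))
    refine le_trans (Nat.le_of_dvd (Nat.pos_of_ne_zero (relIndex_ne_zero' _ _))
      (Subgroup.relIndex_dvd_of_le_left U₁ h4)) (le_of_eq ?_)
    rw [← Subgroup.relIndex_mul_relIndex (CH ⊓ (U₁ ⊓ Q)) (U₁ ⊓ Q) U₁ inf_le_right inf_le_left,
      Subgroup.inf_relIndex_right, mul_comm, inf_comm U₁ Q, Subgroup.inf_relIndex_right]
  have hb1 : 1 < j → j ^ 3 < (e * j') ^ 2 := hbd hV hV'el rfl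
    (hR V₀' hV₀'Q (elemImage_of_isEl (isEl_mono hV'el inf_le_left)))
  have hb2 : 1 < j' → j' ^ 3 < (e * j) ^ 2 := by
    have he' : Q.relIndex V' = e := by
      rw [he, ← Subgroup.inf_relIndex_right Q V', inf_comm, ← hV₀', ← hV₀'e, hV',
        Subgroup.relIndex_map_map_of_injective _ _ hinj, hV₀, inf_comm, Subgroup.inf_relIndex_right]
    intro hgt
    have := hbd hV'el hV (sup_comm V' V)
      (hR' V₀ hV₀Q (elemImage_of_isEl (isEl_mono hV inf_le_left))) hgt
    rwa [he'] at this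
  rw [hcard] at hdom
  have hb3 : e ^ 2 ≤ j := hdom.trans hfix
  have he2 : 2 ≤ e := by
    have h0 := relIndex_ne_zero' Q V
    have h1 : e ≠ 1 := fun h1 => hVQ (Subgroup.relIndex_eq_one.mp h1)
    omega
  have he4 : 4 ≤ e ^ 2 := Nat.pow_le_pow_left he2 2
  have hj'0 : 0 < j' := Nat.pos_of_ne_zero (relIndex_ne_zero' _ _)
  have h5 := hb1 (by omega)
  have h6 : (e ^ 2) ^ 3 ≤ j ^ 3 := Nat.pow_le_pow_left hb3 3
  rcases Nat.lt_or_ge j' 2 with h7 | h7
  · rw [show j' = 1 by omega, mul_one] at h5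
    have h8 : e ^ 2 ≤ (e ^ 2) ^ 3 := Nat.le_self_pow (by norm_num) _
    omega
  have h8 := hb2 (by omega)
  -- the product of the two bounds
  have h9 : j * j' < e ^ 4 := by
    have h10 : (j * j') ^ 2 * (j * j') < (j * j') ^ 2 * e ^ 4 := by
      calc (j * j') ^ 2 * (j * j') = j ^ 3 * j' ^ 3 := by ring
        _ < (e * j') ^ 2 * (e * j) ^ 2 := Nat.mul_lt_mul_of_lt_of_lt h5 h8
        _ = _ := by ring
    exact Nat.lt_of_mul_lt_mul_left h10
  have h11 : j' < e ^ 2 := by
    refine Nat.lt_of_mul_lt_mul_left (a := e ^ 2) ?_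
    calc e ^ 2 * j' ≤ j * j' := Nat.mul_le_mul_right _ hb3
      _ < e ^ 4 := h9
      _ = _ := by ring
  have h12 : (e * j') ^ 2 ≤ (e ^ 2) ^ 3 := by
    calc (e * j') ^ 2 = e ^ 2 * j' ^ 2 := by ring
      _ ≤ e ^ 2 * (e ^ 2) ^ 2 := Nat.mul_le_mul_left _ (Nat.pow_le_pow_left h11.le 2)
      _ = _ := by ring
  omega


end Cfsg.Agent.Classical.SFourK
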