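import Cfsg.Agent.Lib.Block.SFourFree.Stage1
import Cfsg.Agent.Lib.Classical.SThree.LayerRegular
import Cfsg.Agent.Lib.Classical.SFourK.Defs
import Cfsg.Agent.Lib.Invol.ClassTwoJ

/-!
The first factorisation when the simple sections are Suzuki groups or `PSL₂(3^(2n+1))`.
-/

set_option autoImplicit false
set_option linter.unusedSectionVars false
set_option linter.style.haveILetI false

namespace Cfsg.Agent.Classical.SFourK

open Subgroup Cfsg.Agent.Invol Cfsg.Agent.Block.SFour
open scoped Pointwise commutatorElement IsMulCommutative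

universe u

variable {L : Type u} [Group L] [Finite L]

/-- Simple sections of a subgroup are simple sections of the group. -/
theorem kgroup_subgroup (h : Cfsg.IsKGroupWith Cfsg.IsSuzukiOrPSL2OddPowerThree L) (K : Subgroup L) :
    Cfsg.IsKGroupWith Cfsg.IsSuzukiOrPSL2OddPowerThree K := by
  intro H N _ hs hne
  let e := Subgroup.equivMapOfInjective H K.subtype K.subtype_injective
  haveI : (N.map e.toMonoidHom).Normal := (inferInstance : N.Normal).map _ e.surjective
  let q := QuotientGroup.congr N (N.map e.toMonoidHom) e rfl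
  haveI := q.symm.isSimpleGroup
  exact SThree.classCongr q (h _ _ inferInstance fun hh => hne ⟨⟨fun a b => q.injective (by
    rw [map_mul, map_mul]; exact hh.is_comm.comm _ _)⟩⟩)

/-- Simple sections of a quotient are simple sections of the group. -/
theorem kgroup_of_surjective {K : Type u} [Group K] [Finite K]
    (h : Cfsg.IsKGroupWith Cfsg.IsSuzukiOrPSL2OddPowerThree L) (f : L →* K) (hf : Function.Surjective f) :
    Cfsg.IsKGroupWith Cfsg.IsSuzukiOrPSL2OddPowerThree K := by
  intro U W _ hs hne
  let σ : U.comap f →* U := f.subgroupComap U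
  have hσ : Function.Surjective σ := MonoidHom.subgroupComap_surjective_of_surjective _ _ hf
  let q : U.comap f ⧸ W.comap σ ≃* U ⧸ W :=
    (QuotientGroup.quotientMulEquivOfEq (by rw [← MonoidHom.comap_ker, QuotientGroup.ker_mk'])).trans
      (QuotientGroup.quotientKerEquivOfSurjective ((QuotientGroup.mk' W).comp σ)
        ((QuotientGroup.mk'_surjective W).comp hσ))
  haveI := q.isSimpleGroup
  exact SThree.classCongr q.symm (h _ _ inferInstance fun hh => hne ⟨⟨fun a b =>
    q.symm.injective (by rw [map_mul, map_mul]; exact hh.is_comm.comm _ _)⟩⟩)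

/-- The bound for an action whose image has no nontrivial normal 2-subgroup. -/
theorem dom_act {V : Type u} [CommGroup V] [Finite V] {α : L →* MulAut V} (hV : ∀ v : V, v ^ 2 = 1)
    (hn : NoThree L) (hK : Cfsg.IsKGroupWith Cfsg.IsSuzukiOrPSL2OddPowerThree L) {A : Subgroup L}
    (hA : Cfsg.IsElementaryAbelian 2 (A.map α)) (hred : Cfsg.pCore 2 α.range = ⊥) :
    (Nat.card (A.map α)) ^ 2 ≤ (fixOf α A).index := by
  have hρ := α.rangeRestrict_surjective
  have hKr := kgroup_of_surjective hK α.rangeRestrict hρ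
  have e0 : α.range.subtype.comp α.rangeRestrict = α := by ext x v; rfl
  have hAel : Cfsg.IsElementaryAbelian 2 (A.map α.rangeRestrict) :=
    isEl_of_map α.range.subtype_injective (by rw [Subgroup.map_map, e0]; exact hA)
  have hb := SThree.dom_faithful (α := α.range.subtype) α.range.subtype_injective hV hred
    (hn.map α.rangeRestrict hρ) (SThree.goodComps_of_composition fun H _ => hKr H)
    _ (A.map α.rangeRestrict) rfl hAel
  have e2 : fixOf α.range.subtype (A.map α.rangeRestrict) = fixOf α A := by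
    ext v
    exact ⟨fun h a ha => h _ ⟨a, ha, rfl⟩, fun h => by rintro _ ⟨a, ha, rfl⟩; exact h a ha⟩
  rwa [← Subgroup.card_map_of_injective (K := A.map α.rangeRestrict) (f := α.range.subtype) α.range.subtype_injective,
    Subgroup.map_map, e0, e2] at hb

/-- The bound on commutators for an action whose image has no nontrivial normal 2-subgroup. -/
theorem dom_act_commutator {V : Type u} [CommGroup V] [Finite V] {α : L →* MulAut V}
    (hV : ∀ v : V, v ^ 2 = 1) (hn : NoThree L)
    (hK : Cfsg.IsKGroupWith Cfsg.IsSuzukiOrPSL2OddPowerThree L) {A : Subgroup L}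
    (hA : Cfsg.IsElementaryAbelian 2 (A.map α)) (hred : Cfsg.pCore 2 α.range = ⊥) :
    (Nat.card (A.map α)) ^ 2 ≤
      Nat.card (Subgroup.closure {w : V | ∃ a ∈ A, ∃ v, w = α a v / v}) := by
  have hρ := α.rangeRestrict_surjective
  have hKr := kgroup_of_surjective hK α.rangeRestrict hρ
  have e0 : α.range.subtype.comp α.rangeRestrict = α := by ext x v; rfl
  have hAel : Cfsg.IsElementaryAbelian 2 (A.map α.rangeRestrict) :=
    isEl_of_map α.range.subtype_injective (by rw [Subgroup.map_map, e0]; exact hA)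
  have hb := SThree.dom_commutator (α := α.range.subtype) α.range.subtype_injective hV hred
    (hn.map α.rangeRestrict hρ) (SThree.goodComps_of_composition fun H _ => hKr H) hAel
  have e2 : {w : V | ∃ a ∈ A.map α.rangeRestrict, ∃ v, w = α.range.subtype a v / v} =
      {w : V | ∃ a ∈ A, ∃ v, w = α a v / v} := by
    ext w
    exact ⟨fun ⟨_, ⟨a, ha, rfl⟩, v, e⟩ => ⟨a, ha, v, e⟩,
      fun ⟨a, ha, v, e⟩ => ⟨_, ⟨a, ha, rfl⟩, v, e⟩⟩
  rwa [← Subgroup.card_map_of_injective (K := A.map α.rangeRestrict) (f := α.range.subtype) α.range.subtype_injective,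
    Subgroup.map_map, e0, e2] at hb

/-- The hypotheses carried by the groups considered. -/
structure Local (L : Type u) [Group L] [Finite L] : Prop where
  kgroup : Cfsg.IsKGroupWith Cfsg.IsSuzukiOrPSL2OddPowerThree L
  char2 : centralizer (Cfsg.pCore 2 L : Set L) ≤ Cfsg.pCore 2 L
  noThree : NoThree L

/-- The hypotheses pass to subgroups containing a Sylow 2-subgroup. -/
theorem Local.overgroup (h : Local L) (S : Sylow 2 L) {K : Subgroup L} (hK : (S : Subgroup L) ≤ K) :
    Local K := by
  haveI : Fact (Nat.Prime 2) := ⟨Nat.prime_two⟩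
  refine ⟨kgroup_subgroup h.kgroup K, ?_, h.noThree.subgroup K⟩
  haveI hQn : (Cfsg.pCore 2 L).Normal := Grp.pCore_isNormal
  have hQK : Cfsg.pCore 2 L ≤ K := (Grp.pCore_le_sylow S).trans hK
  have hle : (Cfsg.pCore 2 L).subgroupOf K ≤ Cfsg.pCore 2 K :=
    Grp.le_pCore (hQn.subgroupOf K) (Grp.pCore_isPGroup.comap_subtype)
  intro x hx
  refine hle (h.char2 (Subgroup.mem_centralizer_iff.mpr fun q hq => ?_))
  exact congrArg Subtype.val (Subgroup.mem_centralizer_iff.mp hx ⟨q, hQK hq⟩ (hle hq))

/-- The first factorisation. -/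
theorem factor_one (h : Local L) (S : Sylow 2 L) (x : L) :
    ∃ c ∈ centralizer (((S : Subgroup L) ⊓ centralizer ((S : Subgroup L) : Set L) : Subgroup L) : Set L),
      ∃ d ∈ normalizer (Cfsg.thompsonSubgroupOf 2 (S : Subgroup L) : Set L) ⊓
          normalizer (jHat (S : Subgroup L) : Set L), x = c * d := by
  haveI : Fact (Nat.Prime 2) := ⟨Nat.prime_two⟩
  haveI hQn : (Cfsg.pCore 2 L).Normal := Grp.pCore_isNormal
  set Q := Cfsg.pCore 2 L
  set S' : Subgroup L := (S : Subgroup L) with hS'
  set Z := S' ⊓ centralizer (S' : Set L) with hZ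
  have hQS : Q ≤ S' := Grp.pCore_le_sylow S
  have hZQ : Z ≤ Q := fun z hz => h.char2 (Subgroup.centralizer_le hQS hz.2)
  haveI : (Q ⊓ centralizer (Q : Set L)).Normal := by infer_instance
  set W := normalClosure (Z : Set L) with hW
  have hWle : W ≤ Q ⊓ centralizer (Q : Set L) := Subgroup.normalClosure_le_normal fun z hz =>
    ⟨hZQ hz, Subgroup.centralizer_le hQS hz.2⟩
  have hZW : Z ≤ W := Subgroup.le_normalClosure
  have hWc : ∀ a ∈ W, ∀ b ∈ W, a * b = b * a := fun a ha b hb =>
    Subgroup.mem_centralizer_iff.mp (hWle hb).2 a (hWle ha).1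
  haveI : IsMulCommutative W := ⟨⟨fun a b => Subtype.ext (hWc _ a.2 _ b.2)⟩⟩
  haveI : W.Normal := Subgroup.normalClosure_normal
  -- a normal subgroup of the closure with the same centraliser has reduced action
  have hred : ∀ (X : Subgroup L) [X.Normal] [IsMulCommutative X], X ≤ W →
      centralizer (X : Set L) ≤ centralizer (Z : Set L) →
      Cfsg.pCore 2 (MulAut.conjNormal : L →* MulAut X).range = ⊥ := by
    intro X _ _ hXW hXZ
    set α : L →* MulAut X := MulAut.conjNormal
    rw [Subgroup.eq_bot_iff_forall]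
    intro y hy
    obtain ⟨x, rfl⟩ := α.rangeRestrict_surjective y
    set P := (Cfsg.pCore 2 α.range).comap α.rangeRestrict with hP
    haveI : (Cfsg.pCore 2 α.range).Normal := Grp.pCore_isNormal
    haveI : P.Normal := (inferInstance : (Cfsg.pCore 2 α.range).Normal).comap _
    have hPZ : P ≤ centralizer (Z : Set L) := by
      intro p hp
      obtain ⟨s, hs, hsp⟩ := pCore_preimage α.rangeRestrict α.rangeRestrict_surjective S hp
      have hsp' : α (s⁻¹ * p) = 1 := by
        have := congrArg Subtype.val hsp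
        rw [map_mul, map_inv, inv_mul_eq_one]; exact this
      have h1 : s⁻¹ * p ∈ centralizer (Z : Set L) := hXZ (mem_centralizer_iff_conjNormal.mp hsp')
      have h2 : s ∈ centralizer (Z : Set L) := Subgroup.mem_centralizer_iff.mpr fun z hz =>
        (Subgroup.mem_centralizer_iff.mp hz.2 s hs).symm
      have := mul_mem h2 h1
      rwa [mul_inv_cancel_left] at this
    have hXP : X ≤ centralizer (P : Set L) := hXW.trans
      (Subgroup.normalClosure_le_normal fun z hz => Subgroup.mem_centralizer_iff.mpr fun p hp =>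
        (Subgroup.mem_centralizer_iff.mp (hPZ hp) z hz).symm)
    refine Subtype.ext ?_
    show α x = 1
    exact mem_centralizer_iff_conjNormal.mpr ((Subgroup.le_centralizer_iff.mp hXP) hy)
  -- the involutions of the closure
  let X : Subgroup L :=
    { carrier := {w | w ∈ W ∧ w ^ 2 = 1}
      one_mem' := ⟨one_mem W, one_pow 2⟩
      mul_mem' := fun {a b} ha hb => ⟨mul_mem ha.1 hb.1, by
        rw [(show Commute a b from hWc a ha.1 b hb.1).mul_pow, ha.2, hb.2, one_mul]⟩
      inv_mem' := fun {a} ha => ⟨inv_mem ha.1, by rw [inv_pow, ha.2, inv_one]⟩ }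
  have hXW : X ≤ W := fun w hw => hw.1
  have hXel : Cfsg.IsElementaryAbelian 2 X :=
    isEl_iff.mpr ⟨fun a ha b hb => hWc a (hXW ha) b (hXW hb), fun a ha => ha.2⟩
  haveI := hXel.1
  haveI : X.Normal := ⟨fun w hw g => ⟨(inferInstance : W.Normal).conj_mem w hw.1 g, by
    rw [conj_pow, hw.2, mul_one, mul_inv_cancel]⟩⟩
  set C := centralizer (X : Set L) with hC
  haveI : C.Normal := by rw [hC]; infer_instance
  have hWp : IsPGroup 2 W := Grp.pCore_isPGroup.to_le (hWle.trans inf_le_left)
  -- `C(X)` centralises the closure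
  have hCW : C ≤ centralizer (W : Set L) := by
    set α : L →* MulAut W := MulAut.conjNormal
    haveI : (C.map α.rangeRestrict).Normal :=
      (inferInstance : C.Normal).map _ α.rangeRestrict_surjective
    have hp : IsPGroup 2 (C.map α.rangeRestrict) := by
      rintro ⟨_, c, hc, rfl⟩
      obtain ⟨k, hk⟩ := Invol.exists_pow_coprime (p := 2) c
      refine ⟨k, Subtype.ext ?_⟩
      rw [SubmonoidClass.coe_pow, OneMemClass.coe_one, ← map_pow]
      refine Subtype.ext (show α (c ^ 2 ^ k) = 1 from mem_centralizer_iff_conjNormal.mpr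
        (Subgroup.mem_centralizer_iff.mpr fun w hw => ?_))
      have h1 := centralizes_of_fix_omega hWp hWc
        (g := c ^ 2 ^ k) (fun a ha => (inferInstance : W.Normal).conj_mem a ha _)
        (Nat.coprime_two_right.mp hk) (fun a ha ha2 => by
          rw [← Subgroup.mem_centralizer_iff.mp (C.pow_mem hc _) a ⟨ha, ha2⟩, mul_inv_cancel_right])
        w hw
      exact (mul_inv_eq_iff_eq_mul.mp h1).symm
    have h1 := Grp.le_pCore (inferInstance : (C.map α.rangeRestrict).Normal) hp
    rw [hred W le_rfl (Subgroup.centralizer_le hZW)] at h1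
    intro c hc
    exact mem_centralizer_iff_conjNormal.mp
      (congrArg Subtype.val (Subgroup.mem_bot.mp (h1 (Subgroup.mem_map_of_mem _ hc))))
  have hCZ : C ≤ centralizer (Z : Set L) := hCW.trans (Subgroup.centralizer_le hZW)
  have hXS : X ≤ S' := hXW.trans ((hWle.trans inf_le_left).trans hQS)
  have hredX := hred X hXW hCZ
  have hV2 : ∀ v : X, v ^ 2 = 1 := fun v => Subtype.ext (by
    rw [SubmonoidClass.coe_pow]; exact hXel.2 v v.2)
  have hdom : ∀ R : Subgroup L, ElemImage R X →
      (C.relIndex R) ^ 2 ≤ (centralizer (R : Set L)).relIndex X := by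
    intro R hR
    have := dom_act (α := (MulAut.conjNormal : L →* MulAut X))
      hV2 h.noThree h.kgroup (elemImage_map_conjNormal hR) hredX
    rwa [card_map_conjNormal, index_fixOf_conjNormal] at this
  have hcom : ∀ R : Subgroup L, ElemImage R X → (C.relIndex R) ^ 2 ≤ Nat.card ↥⁅X, R⁆ := by
    intro R hR
    have h1 := dom_act_commutator (α := (MulAut.conjNormal : L →* MulAut X))
      hV2 h.noThree h.kgroup (elemImage_map_conjNormal hR) hredX
    rw [card_map_conjNormal] at h1
    refine h1.trans ?_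
    rw [← Subgroup.card_map_of_injective (f := X.subtype) X.subtype_injective]
    refine Subgroup.card_le_of_le ?_
    rw [MonoidHom.map_closure, Subgroup.closure_le]
    rintro _ ⟨_, ⟨a, ha, v, rfl⟩, rfl⟩
    have e : X.subtype (MulAut.conjNormal a v / v) = ⁅a, (v : L)⁆ := by
      simp [MulAut.conjNormal_apply, commutatorElement_def, div_eq_mul_inv]
    rw [SetLike.mem_coe, e, Subgroup.commutator_comm]
    exact Subgroup.commutator_mem_commutator ha v.2
  have hbig : ∀ R : Subgroup L, ElemImage R X → ¬ R ≤ C → Big X R := by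
    intro R hR hne
    have he : 2 ≤ C.relIndex R := by
      have h0 := relIndex_ne_zero' C R
      have h1 : C.relIndex R ≠ 1 := fun e => hne (Subgroup.relIndex_eq_one.mp e)
      omega
    refine ⟨?_, lt_of_lt_of_le ?_ (hcom R hR)⟩
    · refine lt_of_lt_of_le ?_ (Nat.pow_le_pow_left (hdom R hR) 2)
      rw [← pow_mul]
      exact Nat.pow_lt_pow_right (lt_of_lt_of_le one_lt_two he) (by norm_num)
    · calc C.relIndex R = C.relIndex R ^ 1 := (pow_one _).symm
        _ < C.relIndex R ^ 2 := Nat.pow_lt_pow_right (by omega) (by norm_num)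
  obtain ⟨A, hA⟩ := JComp.exists_maxEl S'
  have hXA : X ≤ A := fun v hv => hA.mem_of_commute (hXS hv) (hXel.2 v hv) fun a ha =>
    (Subgroup.mem_centralizer_iff.mp (maxEl_centralizes hA hXS hXel
      (hdom A (elemImage_of_isEl (isEl_iff.mpr hA.2.1))) ha) v hv).symm
  have hJC : jHat S' ≤ C := sSup_le fun T hT => hT.2.2 X hXel
    (hXA.trans (hA.le_thompsonEl.trans hT.2.1))
    (by rw [Subgroup.normalizer_eq_top]; exact le_top) fun R _ hR hne => hbig R hR hne
  set R₀ := S' ⊓ C with hR₀
  have hR₀J : jHat R₀ = jHat S' := jHat_eq_of_between (le_inf (jHat_le S') hJC) inf_le_left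
  have hR₀T : Cfsg.thompsonSubgroupOf 2 R₀ = Cfsg.thompsonSubgroupOf 2 S' :=
    JComp.thompson_eq_of_between (le_inf (thompsonEl_le S') ((thompson_le_jHat S').trans hJC))
      inf_le_left
  have hfr := frattini_inf S C
  have hx : x ∈ C ⊔ normalizer (R₀ : Set L) := by rw [sup_comm, hfr]; trivial
  obtain ⟨c, hc, d, hd, rfl⟩ := Subgroup.mem_sup_of_normal_left.mp hx
  exact ⟨c, hCZ hc, d,
    ⟨hR₀T ▸ normalizer_le_thompson R₀ hd, hR₀J ▸ normalizer_le_jHat R₀ hd⟩, rfl⟩


end Cfsg.Agent.Classical.SFourK
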